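import Groth.Agent.H8Coh.DualThickening
import Groth.Agent.OmegaLib.DOmega

/-! # Infinitesimal automorphisms of the trivial first order deformation -/

set_option autoImplicit false
set_option backward.isDefEq.respectTransparency false
set_option backward.isDefEq.respectTransparency.types false
set_option linter.style.haveILetI false
set_option maxHeartbeats 1000000

universe u

open CategoryTheory CategoryTheory.Limits AlgebraicGeometry Opposite TopologicalSpace
open Groth.Agent.PicLib Groth.Agent.PicDef15 Groth.Agent.H8Coh.DualThickening Groth.Agent.OmegaLib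

noncomputable section

namespace Groth.Agent.InfAut13975

variable {K : Type u} [Field K] {Y Z : Scheme.{u}} {g : Y ⟶ Spec (CommRingCat.of (DualNumber K))} {π : Y ⟶ Z}
  {q : Z ⟶ Spec (CommRingCat.of K)}
  (sq : IsPullback π g q (Spec.map (CommRingCat.ofHom (algebraMap K (DualNumber K)))))
  {i : Z ⟶ Y} (hi : i ≫ π = 𝟙 Z)
  (hig : i ≫ g = q ≫ Spec.map (CommRingCat.ofHom (TrivSqZeroExt.fstHom K K K).toRingHom))

variable (g π) in
/-- `b ↦ ε b` -/
def ins (V : Z.Opens) (b : Γ(Z, V)) : Γ(Y, π ⁻¹ᵁ V) :=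
  phi g (π ⁻¹ᵁ V) DualNumber.eps * π.app V b

theorem ins_add (V : Z.Opens) (b c : Γ(Z, V)) : ins g π V (b + c) = ins g π V b + ins g π V c := by
  simp only [ins, map_add, mul_add]

theorem ins_zero (V : Z.Opens) : ins g π V 0 = 0 := by simp only [ins, map_zero, mul_zero]

theorem ins_mul_ins (V : Z.Opens) (b c : Γ(Z, V)) : ins g π V b * ins g π V c = 0 := by
  rw [ins, ins, mul_mul_mul_comm, ← map_mul, DualNumber.eps_mul_eps, map_zero, zero_mul]

theorem res_ins {U V : Z.Opens} (h : V ≤ U) (b : Γ(Z, U)) :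
    res (π.preimage_mono h) (ins g π U b) = ins g π V (res h b) := by
  rw [ins, ins, map_mul, res_phi, Groth.Agent.H8Coh.DualThickening.res_app]

include hi in
theorem red_res {U V : Z.Opens} (h : V ≤ U) (u : Γ(Y, π ⁻¹ᵁ U)) :
    red hi (res (π.preimage_mono h) u) = res h (red hi u) := by
  rw [red, red, res_res]
  have := congr($(i.naturality (homOfLE (π.preimage_mono h)).op) u)
  refine (congrArg (res _) this).trans ?_
  exact res_res _ _ _

include sq hi hig

theorem red_ins (V : Z.Opens) (b : Γ(Z, V)) : red hi (ins g π V b) = 0 := by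
  show res _ (i.app _ (_ * _)) = 0
  rw [map_mul, map_mul]
  exact mul_eq_zero_of_left (red_eps sq hi hig V) _

theorem ins_injective {V : Z.Opens} {b c : Γ(Z, V)} (h : ins g π V b = ins g π V c) : b = c := by
  refine TopCat.Sheaf.eq_of_locally_eq' Z.sheaf (fun W : {W : Z.affineOpens // W.1 ≤ V} => W.1.1) V
    (fun W => homOfLE W.2) (fun y hy => ?_) _ _ fun W => ?_
  · obtain ⟨W, hW, hyW, hWV⟩ := exists_isAffineOpen_mem_and_subset (x := y) (U := V) hy
    exact Opens.mem_iSup.2 ⟨⟨⟨W, hW⟩, hWV⟩, hyW⟩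
  · show res W.2 b = res W.2 c
    refine sub_eq_zero.1 (eq_zero_of_eps_mul sq hi hig W.1.2 ?_)
    show ins g π W.1.1 (res W.2 b - res W.2 c) = 0
    have e : ins g π W.1.1 (res W.2 b) = ins g π W.1.1 (res W.2 c) := by rw [← res_ins W.2, ← res_ins W.2, h]
    rw [ins, map_sub, mul_sub]
    exact sub_eq_zero.2 e

theorem exists_ins {V : Z.Opens} (u : Γ(Y, π ⁻¹ᵁ V)) (hu : red hi u = 0) : ∃ b : Γ(Z, V), u = ins g π V b := by
  let ι' := {W : Z.affineOpens // W.1 ≤ V}
  have h0 : ∀ W : ι', ∃ b : Γ(Z, W.1.1), res (π.preimage_mono W.2) u = ins g π W.1.1 b := fun W => by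
    obtain ⟨b, hb⟩ := exists_decomp sq hi hig W.1.2 (res (π.preimage_mono W.2) u)
    refine ⟨b, hb.trans ?_⟩
    rw [red_res hi W.2, hu, map_zero, map_zero, zero_add]
    rfl
  choose b hb using h0
  have hcov : V ≤ iSup (fun W : ι' => W.1.1) := fun y hy => by
    obtain ⟨W, hW, hyW, hWV⟩ := exists_isAffineOpen_mem_and_subset (x := y) (U := V) hy
    exact Opens.mem_iSup.2 ⟨⟨⟨W, hW⟩, hWV⟩, hyW⟩
  obtain ⟨s, hs, -⟩ := Z.sheaf.existsUnique_gluing' (fun W : ι' => W.1.1) V (fun W => homOfLE W.2) hcov b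
    fun W W' => by
      show res inf_le_left (b W) = res inf_le_right (b W')
      refine ins_injective sq hi hig ?_
      rw [← res_ins, ← res_ins, ← hb, ← hb, res_res, res_res]
  refine ⟨s, TopCat.Sheaf.eq_of_locally_eq' Y.sheaf (fun W : ι' => π ⁻¹ᵁ W.1.1) (π ⁻¹ᵁ V)
    (fun W => homOfLE (π.preimage_mono W.2)) (fun y hy => ?_) _ _ fun W => ?_⟩
  · obtain ⟨W, hW⟩ := Opens.mem_iSup.1 (hcov (show π y ∈ V from hy))
    exact Opens.mem_iSup.2 ⟨W, hW⟩
  · show res _ u = res _ (ins g π V s)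
    rw [hb, res_ins W.2]
    exact congrArg (ins g π _) (hs W).symm

omit sq hig in
theorem base_eq [Surjective i] {φ : Y ⟶ Y} (hφi : i ≫ φ = i) (y : Y) : φ y = y := by
  obtain ⟨z, rfl⟩ := i.surjective y
  exact congrArg (fun m : Z ⟶ Y => m z) hφi

omit sq hig in
theorem le_comp_preimage [Surjective i] {φ : Y ⟶ Y} (hφi : i ≫ φ = i) (V : Z.Opens) :
    π ⁻¹ᵁ V ≤ (φ ≫ π) ⁻¹ᵁ V := fun y hy => by
  show π (φ y) ∈ V
  rw [base_eq hi hφi]
  exact hy

/-- The derivation of an infinitesimal automorphism. -/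
theorem exists_der [Surjective i] {φ : Y ⟶ Y} (hφg : φ ≫ g = g) (hφi : i ≫ φ = i) :
    ∃ D : OmegaSh.Der q (Coh.structureModule Z), ∀ (V : Z.Opens) (a : Γ(Z, V)),
      (φ ≫ π).appLE V (π ⁻¹ᵁ V) (le_comp_preimage hi hφi V) a =
        π.app V a + ins g π V (OmegaSh.fnSect Z V (D.app V a)) := by
  let A : ∀ V : Z.Opens, Γ(Z, V) →+* Γ(Y, π ⁻¹ᵁ V) := fun V =>
    ((φ ≫ π).appLE V (π ⁻¹ᵁ V) (le_comp_preimage hi hφi V)).hom
  have hred : ∀ V a, red hi (A V a - π.app V a) = 0 := fun V a => by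
    have : red hi (A V a - π.app V a) = red hi (A V a) - red hi (π.app V a) := by simp only [red, map_sub]
    rw [this, red_app, sub_eq_zero]
    have key : ∀ (m : Z ⟶ Z), m = 𝟙 Z → ∀ e : V ≤ m ⁻¹ᵁ V, m.appLE V V e a = a := by
      rintro m rfl e
      simp [Scheme.Hom.appLE]
      exact congr($(Z.presheaf.map_id _) a)
    refine Eq.trans ?_ (key (i ≫ φ ≫ π) (by rw [reassoc_of% hφi, hi]) (fun z hz => by
      show π (φ (i z)) ∈ V
      rw [base_eq hi hφi, show π (i z) = z from congrArg (fun m : Z ⟶ Z => m z) hi]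
      exact hz))
    show res _ (i.app _ ((φ ≫ π).appLE V (π ⁻¹ᵁ V) _ a)) = _
    rw [← Scheme.Hom.appLE_comp_appLE i (φ ≫ π) V (π ⁻¹ᵁ V) V (le_comp_preimage hi hφi V)
      (by rw [← Scheme.Hom.comp_preimage, hi]; exact le_rfl)]
    rfl
  choose d hd using fun V a => exists_ins sq hi hig _ (hred V a)
  have hAd : ∀ V a, A V a = π.app V a + ins g π V (d V a) := fun V a => by rw [← hd V a, add_sub_cancel]
  have inj : ∀ {V : Z.Opens} {b c : Γ(Z, V)}, ins g π V b = ins g π V c → b = c :=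
    fun h => ins_injective sq hi hig h
  have hadd : ∀ V a b, d V (a + b) = d V a + d V b := fun V a b => inj (by
    rw [ins_add, ← hd, ← hd, ← hd, map_add, map_add]
    abel)
  have hmul : ∀ V a b, d V (a * b) = a * d V b + b * d V a := fun V a b => inj (by
    rw [← hd, map_mul, hAd, hAd, ins_add, map_mul]
    have := ins_mul_ins (g := g) (π := π) V (d V a) (d V b)
    simp only [ins, map_mul] at *
    linear_combination this)
  refine ⟨{ d := fun {V} => (OmegaSh.strSect Z V.unop).comp (AddMonoidHom.mk' (d V.unop) (hadd V.unop))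
            d_mul := fun {V} a b => hmul V.unop a b
            d_map := fun {U V} h a => ?_
            d_app := fun {W} c => ?_ }, fun V a => hAd V a⟩
  · show d V.unop (Z.presheaf.map h a) = res h.unop.le (d U.unop a)
    refine inj ?_
    rw [← res_ins h.unop.le, ← hd, ← hd, map_sub]
    congr 1
    · show (φ ≫ π).appLE _ _ _ (Z.presheaf.map h a) = Y.presheaf.map _ ((φ ≫ π).appLE _ _ _ a)
      rw [← CommRingCat.comp_apply, ← CommRingCat.comp_apply, Scheme.Hom.map_appLE, Scheme.Hom.appLE_map]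
    · exact (Groth.Agent.H8Coh.DualThickening.res_app h.unop.le a).symm
  · show d (q ⁻¹ᵁ W.unop) (q.app W.unop c) = 0
    refine inj ?_
    rw [← hd, ins_zero, sub_eq_zero]
    have hsq' : (φ ≫ π) ≫ q = π ≫ q := by rw [Category.assoc, sq.w, reassoc_of% hφg]
    have key : ∀ (m : Y ⟶ Spec (CommRingCat.of K)), m = π ≫ q → ∀ e : (π ≫ q) ⁻¹ᵁ W.unop ≤ m ⁻¹ᵁ W.unop,
        m.appLE W.unop ((π ≫ q) ⁻¹ᵁ W.unop) e c = (π ≫ q).app W.unop c := by
      rintro m rfl e
      rw [← Scheme.Hom.app_eq_appLE]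
    refine Eq.trans ?_ (key ((φ ≫ π) ≫ q) hsq' (le_comp_preimage hi hφi (q ⁻¹ᵁ W.unop)))
    rw [Scheme.Hom.comp_appLE]
    rfl

theorem hom_ext [Surjective i] {φ ψ : Y ⟶ Y} (hφg : φ ≫ g = g) (hφi : i ≫ φ = i) (hψg : ψ ≫ g = g)
    (hψi : i ≫ ψ = i) (h : ∀ (V : Z.Opens) (a : Γ(Z, V)),
      (φ ≫ π).appLE V (π ⁻¹ᵁ V) (le_comp_preimage hi hφi V) a =
        (ψ ≫ π).appLE V (π ⁻¹ᵁ V) (le_comp_preimage hi hψi V) a) : φ = ψ := by
  refine sq.hom_ext ?_ (hφg.trans hψg.symm)
  have hb : (φ ≫ π).base = (ψ ≫ π).base := by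
    ext y
    show π (φ y) = π (ψ y)
    rw [base_eq hi hφi, base_eq hi hψi]
  refine Scheme.Hom.ext hb fun V => ?_
  ext a
  have e1 : (ψ ≫ π) ⁻¹ᵁ V ≤ π ⁻¹ᵁ V := fun y hy => by
    have hy' : π (ψ y) ∈ V := hy
    rw [base_eq hi hψi] at hy'
    exact hy'
  have h' := congrArg (res e1) (h V a)
  rw [Scheme.Hom.appLE, Scheme.Hom.appLE, CommRingCat.comp_apply, CommRingCat.comp_apply] at h'
  show Y.presheaf.map _ ((φ ≫ π).app V a) = (ψ ≫ π).app V a
  refine Eq.trans ?_ (h'.trans ((res_res _ _ _).trans (congr($(Y.presheaf.map_id _) _))))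
  exact (res_res _ _ _).symm

theorem exists_lift [Surjective i] (δ : OmegaSh.Der q (Coh.structureModule Z)) :
    ∃ (φ : Y ⟶ Y) (_ : φ ≫ g = g) (hφi : i ≫ φ = i), ∀ (V : Z.Opens) (a : Γ(Z, V)),
      (φ ≫ π).appLE V (π ⁻¹ᵁ V) (le_comp_preimage hi hφi V) a =
        π.app V a + ins g π V (OmegaSh.fnSect Z V (δ.app V a)) := by
  let f : ∀ V : Z.Opens, Γ(Z, V) →+* Γ(Y, π ⁻¹ᵁ V) := fun V =>
    { toFun := fun a => π.app V a + ins g π V (OmegaSh.fnSect Z V (δ.app V a))
      map_one' := by rw [app_one, map_zero, ins_zero, add_zero, map_one]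
      map_zero' := by rw [map_zero (δ.app V), map_zero, map_zero, ins_zero, add_zero]
      map_add' := fun a b => by
        rw [map_add (δ.app V), map_add, map_add, ins_add]
        abel
      map_mul' := fun a b => by
        rw [app_mul δ, map_add, map_mul, show OmegaSh.fnSect Z V (a • δ.app V b) = a * OmegaSh.fnSect Z V (δ.app V b)
          from rfl, show OmegaSh.fnSect Z V (b • δ.app V a) = b * OmegaSh.fnSect Z V (δ.app V a) from rfl, ins_add]
        have := ins_mul_ins (g := g) (π := π) V (OmegaSh.fnSect Z V (δ.app V a)) (OmegaSh.fnSect Z V (δ.app V b))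
        simp only [ins, map_mul] at *
        linear_combination -this }
  let h : Y ⟶ Z := Scheme.Hom.mk
    { base := π.base
      c :=
        { app := fun V => CommRingCat.ofHom (f V.unop)
          naturality := fun U V e => by
            ext a
            show π.app _ (Z.presheaf.map e a) + ins g π _ (OmegaSh.fnSect Z _ (δ.app _ (Z.presheaf.map e a))) =
              res (π.preimage_mono e.unop.le) (π.app _ a + ins g π _ (OmegaSh.fnSect Z _ (δ.app _ a)))
            rw [map_add, res_ins e.unop.le, Groth.Agent.H8Coh.DualThickening.res_app e.unop.le]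
            refine congrArg₂ (· + ·) rfl (congrArg (ins g π _) ?_)
            exact congrArg (OmegaSh.fnSect Z _) (app_map δ e.unop.le a) }
      prop := fun y => by
        constructor
        intro t ht
        obtain ⟨U, hU, a, rfl⟩ := Z.presheaf.exists_germ_eq t
        erw [PresheafedSpace.stalkMap_germ_apply] at ht
        have h1 : IsUnit (Y.presheaf.germ (π ⁻¹ᵁ U) y hU
            (π.app U a + ins g π U (OmegaSh.fnSect Z U (δ.app U a)))) := ht
        rw [map_add] at h1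
        have hnil : IsNilpotent (Y.presheaf.germ (π ⁻¹ᵁ U) y hU (ins g π U (OmegaSh.fnSect Z U (δ.app U a)))) :=
          ⟨2, by rw [pow_two, ← map_mul, ins_mul_ins, map_zero]⟩
        have h2 : IsUnit (Y.presheaf.germ (π ⁻¹ᵁ U) y hU (π.app U a)) := by
          have := IsNilpotent.isUnit_add_left_of_commute hnil.neg h1 (Commute.all _ _)
          simpa using this
        exact (Z.mem_basicOpen a (π y) hU).1 (show y ∈ π ⁻¹ᵁ Z.basicOpen a by
          rw [Scheme.preimage_basicOpen]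
          exact (Y.mem_basicOpen _ y hU).2 h2) }
  have hh : ∀ (V : Z.Opens) a, h.app V a = π.app V a + ins g π V (OmegaSh.fnSect Z V (δ.app V a)) := fun V a => rfl
  have hw : h ≫ q = g ≫ Spec.map (CommRingCat.ofHom (algebraMap K (DualNumber K))) := by
    rw [← sq.w]
    refine Scheme.Hom.ext rfl fun W => ?_
    ext c
    show Y.presheaf.map _ (π.app _ (q.app W c) + ins g π _ (OmegaSh.fnSect Z _ (δ.app _ (q.app W c)))) =
      π.app _ (q.app W c)
    rw [app_app, map_zero, ins_zero, add_zero]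
    exact congr($(Y.presheaf.map_id _) _)
  have hih : i ≫ h = 𝟙 Z := by
    have hb : (i ≫ h).base = (𝟙 Z : Z ⟶ Z).base := by
      show (i ≫ π).base = _
      rw [hi]
    refine Scheme.Hom.ext hb fun V => ?_
    ext a
    show res (show V ≤ i ⁻¹ᵁ (π ⁻¹ᵁ V) by rw [← Scheme.Hom.comp_preimage, hi]; exact le_rfl)
      (i.app _ (h.app V a)) = a
    rw [hh]
    have h1 : red hi (π.app V a + ins g π V (OmegaSh.fnSect Z V (δ.app V a))) = a := by
      rw [show red hi (π.app V a + ins g π V (OmegaSh.fnSect Z V (δ.app V a))) = red hi (π.app V a) +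
        red hi (ins g π V (OmegaSh.fnSect Z V (δ.app V a))) by simp only [red, map_add], red_app,
        red_ins sq hi hig, add_zero]
    exact h1
  refine ⟨sq.lift h g hw, sq.lift_snd _ _ _, sq.hom_ext ?_ ?_, fun V a => ?_⟩
  · rw [Category.assoc, sq.lift_fst, hih, hi]
  · rw [Category.assoc, sq.lift_snd]
  · have key : ∀ (m : Y ⟶ Z), m = h → ∀ e : π ⁻¹ᵁ V ≤ m ⁻¹ᵁ V, m.appLE V (π ⁻¹ᵁ V) e a = h.app V a := by
      rintro m rfl e
      exact congr($(Y.presheaf.map_id _) _)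
    exact key _ (sq.lift_fst _ _ _) _

theorem appLE_comp [Surjective i] {φ ψ : Y ⟶ Y} (hφg : φ ≫ g = g) (hφi : i ≫ φ = i) (hψi : i ≫ ψ = i)
    (hφψ : i ≫ φ ≫ ψ = i) {V : Z.Opens} {a dφ dψ : Γ(Z, V)} {d' : Γ(Z, V)}
    (h₁ : (φ ≫ π).appLE V (π ⁻¹ᵁ V) (le_comp_preimage hi hφi V) a = π.app V a + ins g π V dφ)
    (h₂ : (ψ ≫ π).appLE V (π ⁻¹ᵁ V) (le_comp_preimage hi hψi V) a = π.app V a + ins g π V dψ)
    (h₃ : (φ ≫ π).appLE V (π ⁻¹ᵁ V) (le_comp_preimage hi hφi V) dψ = π.app V dψ + ins g π V d') :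
    ((φ ≫ ψ) ≫ π).appLE V (π ⁻¹ᵁ V) (le_comp_preimage hi hφψ V) a = π.app V a + ins g π V (dφ + dψ) := by
  have e₀ : π ⁻¹ᵁ V ≤ φ ⁻¹ᵁ (π ⁻¹ᵁ V) := le_comp_preimage hi hφi V
  have hE : φ.appLE (π ⁻¹ᵁ V) (π ⁻¹ᵁ V) e₀ (phi g (π ⁻¹ᵁ V) DualNumber.eps) = phi g (π ⁻¹ᵁ V) DualNumber.eps := by
    rw [Scheme.Hom.appLE, CommRingCat.comp_apply, app_phi (RingHom.id _) g g φ (by simp [hφg])]
    exact res_phi g e₀ _
  have hcomp : ∀ b, ((φ ≫ ψ) ≫ π).appLE V (π ⁻¹ᵁ V) (le_comp_preimage hi hφψ V) b =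
      φ.appLE (π ⁻¹ᵁ V) (π ⁻¹ᵁ V) e₀ ((ψ ≫ π).appLE V (π ⁻¹ᵁ V) (le_comp_preimage hi hψi V) b) := fun b => by
    rw [← CommRingCat.comp_apply, Scheme.Hom.appLE_comp_appLE]
    simp only [Category.assoc]
  have hπ : ∀ b, φ.appLE (π ⁻¹ᵁ V) (π ⁻¹ᵁ V) e₀ (π.app V b) =
      (φ ≫ π).appLE V (π ⁻¹ᵁ V) (le_comp_preimage hi hφi V) b := fun b => by
    rw [Scheme.Hom.comp_appLE]
    rfl
  rw [hcomp, h₂, map_add, hπ, h₁]
  simp only [ins]
  rw [map_mul, hE, hπ, h₃]
  have := ins_mul_ins (g := g) (π := π) V 1 d'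
  simp only [ins, map_add, map_one, mul_one] at *
  linear_combination this

end Groth.Agent.InfAut13975
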